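/-
Five members satisfying the relators of the coset certificate of PSU(4,2).

Main results: `Config`, `Polar.exists_config`, `Config.rels`.
-/
import Cfsg.Agent.Lib.FischerPolar.Axioms
import Cfsg.Agent.Lib.ThreeTrans.Solvable.Frame

set_option autoImplicit false

namespace Cfsg.Agent.FischerPolar

open Cfsg Cfsg.Agent.ThreeTrans Cfsg.Agent.ThreeTransRank
open Cfsg.Agent.ThreeTrans.SolvLocal (Cert ev ev_two ev_three certFour string_fact')

variable {G : Type*} [Group G] {D : Set G}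

/-- Two non-commuting pairs commuting with each other, and two further points of a line. -/
structure Config (D : Set G) (p q u u' z₁ z₂ : G) : Prop where
  hp : p ∈ D
  hq : q ∈ D
  hu : u ∈ D
  hu' : u' ∈ D
  pq : ¬ Commute p q
  uu' : ¬ Commute u u'
  pu : Commute p u
  pu' : Commute p u'
  qu : Commute q u
  qu' : Commute q u'
  m₁ : z₁ ∈ line D p u
  m₂ : z₂ ∈ line D p u
  n₁p : z₁ ≠ p
  n₁u : z₁ ≠ u
  n₂p : z₂ ≠ p
  n₂u : z₂ ≠ u
  n₁₂ : z₁ ≠ z₂

variable [Finite G] {s : ℕ}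

/-- If everything commuting with `a` commutes with `b` then `a = b`. -/
theorem Polar.eq_of_sub (P : Polar D s) (h2 : ∃ a ∈ D, ∃ b ∈ D, a ≠ b) {a b : G} (ha : a ∈ D)
    (hb : b ∈ D) (hs : ∀ e ∈ D, Commute a e → Commute b e) : a = b := by
  refine vRel_eq P.cls h2 (centralCores_of_trivialRadical P.rad).1 ha hb
    fun e he => ⟨fun hbe => ?_, hs e he⟩
  have hset : ∀ u ∈ D, {e | e ∈ D ∧ Commute u e} = insert u (adj D u) := by
    intro u hu; ext z
    constructor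
    · rintro ⟨hz, hc⟩
      rcases eq_or_ne z u with rfl | hne
      exacts [Or.inl rfl, Or.inr ⟨hz, hne, hc⟩]
    · rintro (rfl | hz)
      exacts [⟨hu, Commute.refl _⟩, ⟨hz.1, hz.2.2⟩]
  have hcard : ({e | e ∈ D ∧ Commute b e}).ncard ≤ ({e | e ∈ D ∧ Commute a e}).ncard := by
    rw [hset b hb, hset a ha, Set.ncard_insert_of_notMem (fun hm => hm.2.1 rfl),
      Set.ncard_insert_of_notMem (fun hm => hm.2.1 rfl), ncard_adj_eq P.cls hb ha]
  have heq := Set.eq_of_subset_of_ncard_le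
    (fun z (hz : z ∈ {e | e ∈ D ∧ Commute a e}) =>
      (⟨hz.1, hs z hz.1 hz.2⟩ : z ∈ {e | e ∈ D ∧ Commute b e})) hcard (Set.toFinite _)
  have : e ∈ {e | e ∈ D ∧ Commute a e} := heq.symm ▸ (⟨he, hbe⟩ : e ∈ {e | e ∈ D ∧ Commute b e})
  exact this.2

theorem Polar.exists_config (P : Polar D 5) (hadj : ∀ x ∈ D, (adj D x).Nonempty) :
    ∃ p q u u' z₁ z₂, Config D p q u u' z₁ z₂ := by
  obtain ⟨a, ha, -⟩ := id P.cls.2.1
  obtain ⟨b, hb, hba, hab⟩ := hadj a ha
  have h2 : ∃ a ∈ D, ∃ b ∈ D, a ≠ b := ⟨a, ha, b, hb, hba.symm⟩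
  obtain ⟨c, hc, hac⟩ := exists_not_commute P.cls h2 ha
  obtain ⟨p, hp, hcp⟩ := P.hit ha hb hba.symm hab hc
  have hap := (line_comm ha hb hab hp).1
  have hpa : p ≠ a := fun e => hac (e ▸ hcp).symm
  obtain ⟨e, he, hae, hpe⟩ : ∃ e ∈ D, Commute a e ∧ ¬ Commute p e := by
    by_contra hcon
    push Not at hcon
    exact hpa (P.eq_of_sub h2 ha hp.1 hcon).symm
  have hea : e ≠ a := fun h => hpe (h ▸ hap.symm)
  obtain ⟨q, hq, hcq⟩ := P.hit ha he hea.symm hae hc
  have hqa : q ≠ a := fun h => hac (h ▸ hcq).symm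
  have haq := (line_comm ha he hae hq).1
  have hpq : ¬ Commute p q := fun h =>
    hpe (P.two ha he hea.symm hae (left_mem ha) hq hqa.symm hp.1 hap.symm h (right_mem he))
  obtain ⟨z₁, m₁, hz₁⟩ := Set.exists_mem_notMem_of_ncard_lt_ncard (s := ({p, a} : Set G))
    (t := line D p a) (by rw [P.card hp.1 ha hpa hap.symm, Set.ncard_pair hpa]; omega)
  obtain ⟨z₂, m₂, hz₂⟩ := Set.exists_mem_notMem_of_ncard_lt_ncard (s := ({p, a, z₁} : Set G))
    (t := line D p a) (by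
      rw [P.card hp.1 ha hpa hap.symm]
      calc ({p, a, z₁} : Set G).ncard ≤ ({a, z₁} : Set G).ncard + 1 := Set.ncard_insert_le _ _
        _ ≤ ({z₁} : Set G).ncard + 1 + 1 := by gcongr; exact Set.ncard_insert_le _ _
        _ < 5 := by rw [Set.ncard_singleton]; norm_num)
  simp only [Set.mem_insert_iff, Set.mem_singleton_iff, not_or] at hz₁ hz₂
  exact ⟨p, q, a, c, z₁, z₂, hp.1, hq.1, ha, hc, hpq, hac, hap.symm, hcp.symm, haq.symm,
    hcq.symm, m₁, m₂, hz₁.1, hz₁.2, hz₂.1, hz₂.2.1, Ne.symm hz₂.2.2⟩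

namespace Config

variable {p q u u' z₁ z₂ : G} (P : Polar D 5) (C : Config D p q u u' z₁ z₂)

/-- The generators. -/
def gen (_ : Config D p q u u' z₁ z₂) : ℕ → G := fun i =>
  if i = 0 then p else if i = 1 then q else if i = 2 then z₁ else if i = 3 then u' else z₂

include P C

theorem q_off {i : G} (hi : i ∈ FischerPolar.line D p u) (hne : i ≠ u) : ¬ Commute q i := fun h =>
  have hpu : p ≠ u := fun e => C.pq (e ▸ C.qu).symm
  hne (P.hit_unique C.hp C.hu hpu C.pu hi (right_mem C.hu) C.hq (left_mem C.hp)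
    (fun e => C.pq e.symm) h C.qu)

theorem u'_off {i : G} (hi : i ∈ FischerPolar.line D p u) (hne : i ≠ p) : ¬ Commute u' i := fun h =>
  have hpu : p ≠ u := fun e => C.pq (e ▸ C.qu).symm
  hne (P.hit_unique C.hp C.hu hpu C.pu hi (left_mem C.hp) C.hu' (right_mem C.hu)
    (fun e => C.uu' e.symm) h C.pu'.symm)

theorem last_rel : ¬ Commute (u' * (z₁ * q * z₁) * u') z₂ := by
  intro e
  have hD := P.set
  have hpu : p ≠ u := fun e => C.pq (e ▸ C.qu).symm
  have hqD := conj_mem hD P.conj C.hu' (conj_mem hD P.conj C.m₁.1 C.hq)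
  have h1 := string_fact' hD C.hu' C.m₁.1 C.hq C.qu'.symm (C.u'_off P C.m₁ C.n₁p)
    fun h => C.q_off P C.m₁ C.n₁u h.symm
  have h2 := P.two C.hp C.hu hpu C.pu C.m₁ C.m₂ C.n₁₂ hqD h1.symm e (left_mem C.hp)
  have hpz := line_comm C.hp C.hu C.pu C.m₁
  have hg : Commute p (u' * z₁) := C.pu'.mul_right hpz.1
  have h3 : Commute q p := by
    have e1 : u' * (z₁ * q * z₁) * u' = u' * z₁ * q * (u' * z₁)⁻¹ := by
      rw [mul_inv_rev, inv_eq hD C.hu', inv_eq hD C.m₁.1]; simp only [mul_assoc]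
    rw [e1] at h2
    have h4 := h2.map (MulAut.conj (u' * z₁)⁻¹).toMonoidHom
    simp only [MulEquiv.coe_toMonoidHom, MulAut.conj_apply, inv_inv] at h4
    rw [show (u' * z₁)⁻¹ * p * (u' * z₁) = p by rw [mul_assoc, hg.eq, inv_mul_cancel_left]] at h4
    simpa [mul_assoc] using h4
  exact C.pq h3.symm

theorem rels : (∀ a < 5, C.gen a * C.gen a = 1) ∧ ∀ r ∈ certFour.rels, ev C.gen r = 1 := by
  have hD := P.set
  have sp := mul_self hD C.hp
  have sq := mul_self hD C.hq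
  have s1 := mul_self hD C.m₁.1
  have su := mul_self hD C.hu'
  have s2 := mul_self hD C.m₂.1
  refine ⟨fun a ha => ?_, fun r hr => ?_⟩
  · interval_cases a
    exacts [sp, sq, s1, su, s2]
  have p3 : ∀ a b : G, a ∈ D → b ∈ D → ¬ Commute a b → (a * b) ^ 3 = 1 :=
    fun a b ha hb hn => pow_three_of_not_commute hD ha hb hn
  have l1 := line_comm C.hp C.hu C.pu C.m₁
  have l2 := line_comm C.hp C.hu C.pu C.m₂
  simp only [certFour, List.mem_cons, List.not_mem_nil, or_false] at hr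
  rcases hr with rfl | rfl | rfl | rfl | rfl | rfl | rfl | rfl | rfl | rfl | rfl
  · exact ev_three (x := p) (y := q) rfl rfl (p3 q p C.hq C.hp fun e => C.pq e.symm)
  · exact ev_two (x := p) (y := z₁) rfl rfl sp s1 l1.1
  · exact ev_two (x := p) (y := u') rfl rfl sp su C.pu'
  · exact ev_two (x := p) (y := z₂) rfl rfl sp s2 l2.1
  · exact ev_three (x := q) (y := z₁) rfl rfl
      (p3 z₁ q C.m₁.1 C.hq fun e => C.q_off P C.m₁ C.n₁u e.symm)
  · exact ev_two (x := q) (y := u') rfl rfl sq su C.qu'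
  · exact ev_three (x := q) (y := z₂) rfl rfl
      (p3 z₂ q C.m₂.1 C.hq fun e => C.q_off P C.m₂ C.n₂u e.symm)
  · exact ev_three (x := z₁) (y := u') rfl rfl (p3 u' z₁ C.hu' C.m₁.1 (C.u'_off P C.m₁ C.n₁p))
  · exact ev_two (x := z₁) (y := z₂) rfl rfl s1 s2 (line_clique C.hp C.hu C.pu C.m₁ C.m₂)
  · exact ev_three (x := u') (y := z₂) rfl rfl
      (p3 z₂ u' C.m₂.1 C.hu' fun e => C.u'_off P C.m₂ C.n₂p e.symm)
  · rw [← p3 _ _ (conj_mem hD P.conj C.hu' (conj_mem hD P.conj C.m₁.1 C.hq)) C.m₂.1 (C.last_rel P)]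
    simp only [ev, gen, reduceIte, OfNat.ofNat_ne_zero, OfNat.ofNat_ne_one,
      one_ne_zero, one_mul, pow_succ, pow_zero, mul_assoc, show (4 : ℕ) ≠ 2 by decide,
      show (4 : ℕ) ≠ 3 by decide, show (3 : ℕ) ≠ 2 by decide]

end Config

end Cfsg.Agent.FischerPolar
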