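/-
The frame over the 45 points from the five generators.

Main results: `Config.exists_four` (a map on the isotropic points of `K⁴` compatible with transvections).
-/
import Cfsg.Agent.Lib.FischerPolar.Base.Config
import Cfsg.Agent.Lib.FischerPolar.Emb
import Cfsg.Agent.Lib.ThreeTrans.Solvable.Unitary
import Cfsg.Agent.Lib.ThreeTransSU.PSUPoints

set_option autoImplicit false

namespace Cfsg.Agent.FischerPolar

open Cfsg Cfsg.Agent.ThreeTrans Cfsg.Agent.ThreeTransRank Cfsg.Agent.ThreeTransSU Cfsg.Agent.U62Cover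
open Cfsg.Agent.ThreeTrans.SolvLocal (Cert ev ev_map ev_congr certFour bound_four exists_model_tv
  model_four vecsFour)

variable {G : Type*} [Group G] [Finite G] {D : Set G}

/-- A map on isotropic points compatible with transvections. -/
structure Rules (D : Set G) (ψ : (Fin 4 → K) → G) : Prop where
  mem : ∀ {v}, Iso v → ψ v ∈ D
  smul : ∀ {v} {c : K}, Iso v → c ≠ 0 → ψ (c • v) = ψ v
  comm_iff : ∀ {u v}, Iso u → Iso v → (Commute (ψ u) (ψ v) ↔ hf v u = 0)
  conj : ∀ {u v}, Iso u → Iso v → ψ u * ψ v * ψ u = ψ (rfl2 u v)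

theorem card_psu_four : Nat.card (Cfsg.PSU 4 K 2) = 25920 := by
  have hF : Fintype.card K = 2 ^ 2 := cardK
  have := Cfsg.Agent.S0280.result hF 4 (by norm_num)
  norm_num [Finset.prod_range_succ, Nat.even_iff] at this
  omega

/-- The vectors `(0,0,1,1)`, `(1,1,0,0)` and their sum. -/
def va : Fin 4 → K := ![.z, .z, .o, .o]
/-- See `va`. -/
def vb : Fin 4 → K := ![.o, .o, .z, .z]

theorem Config.exists_four {p q u u' z₁ z₂ : G} (P : Polar D 5) (C : Config D p q u u' z₁ z₂) :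
    ∃ ψ, Rules D ψ ∧ ψ va = p ∧ ψ vb = z₁ ∧ ψ (va + vb) = z₂ := by
  classical
  have hD := P.set
  have hF : Fintype.card K = 4 := cardK
  obtain ⟨g2, gr⟩ := C.rels P
  obtain ⟨t, t2, tr, tg, ht⟩ := exists_model_tv model_four (by norm_num) hF
  have hk : certFour.k = 5 := rfl
  simp only [hk] at t2 tg ht
  let pr : ℕ → G × Cfsg.PSU 4 K 2 := fun a => if a < 5 then (C.gen a, t a) else 1
  set Γ := Subgroup.closure (pr '' {a | a < 5}) with hΓ
  let el : ℕ → Γ := fun a =>
    if ha : a < 5 then ⟨pr a, Subgroup.subset_closure ⟨a, ha, rfl⟩⟩ else 1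
  let π₁ : Γ →* G := (MonoidHom.fst G _).comp Γ.subtype
  let π₂ : Γ →* Cfsg.PSU 4 K 2 := (MonoidHom.snd G _).comp Γ.subtype
  have e1 : ∀ a < 5, π₁ (el a) = C.gen a := fun a ha => by simp [π₁, el, pr, ha]
  have e2 : ∀ a < 5, π₂ (el a) = t a := fun a ha => by simp [π₂, el, pr, ha]
  have hext : ∀ x y : Γ, π₁ x = π₁ y → π₂ x = π₂ y → x = y := fun x y h1 h2 =>
    Subtype.ext (Prod.ext h1 h2)
  have helgen : Subgroup.closure (el '' {a | a < 5}) = ⊤ := by
    have e : el '' {a | a < 5} = (Subtype.val : Γ → _) ⁻¹' (pr '' {a | a < 5}) := by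
      ext ⟨s, hs⟩
      constructor
      · rintro ⟨a, ha, e⟩
        refine ⟨a, ha, ?_⟩
        have := congrArg Subtype.val e
        simpa only [el, dif_pos (show a < 5 from ha)] using this
      · rintro ⟨a, ha, e⟩
        exact ⟨a, ha, Subtype.ext (by simpa only [el, dif_pos (show a < 5 from ha)] using e)⟩
    rw [e]
    exact Subgroup.closure_closure_coe_preimage
  have hsurj : Function.Surjective π₂ := by
    rw [← MonoidHom.range_eq_top, eq_top_iff, ← tg, Subgroup.closure_le]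
    rintro _ ⟨a, ha, rfl⟩
    exact ⟨el a, e2 a ha⟩
  have hlt : ∀ r ∈ certFour.rels, ∀ a ∈ r, a < 5 := by decide +kernel
  have hcard : Nat.card Γ ≤ 51840 := by
    refine bound_four (el := el) (fun a ha => hext _ _ ?_ ?_) (fun r hr => hext _ _ ?_ ?_) helgen
    · rw [map_mul, e1 a ha, g2 a ha, map_one]
    · rw [map_mul, e2 a ha, t2 a ha, map_one]
    · rw [ev_map, ev_congr C.gen r fun a h => e1 a (hlt r hr a h), gr r hr, map_one]
    · rw [ev_map, ev_congr t r fun a h => e2 a (hlt r hr a h), tr r hr, map_one]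
  have hP : Nat.card (Cfsg.PSU 4 K 2) = 25920 := card_psu_four
  have hker : Nat.card π₂.ker ≤ 2 := by
    have h1 := Subgroup.card_eq_card_quotient_mul_card_subgroup π₂.ker
    rw [Nat.card_congr (QuotientGroup.quotientKerEquivOfSurjective π₂ hsurj).toEquiv, hP] at h1
    omega
  have hsmall : ∀ z ∈ π₂.ker, z * z = 1 ∧ ∀ x : Γ, Commute x z := by
    intro z hz
    have h2 : ∀ a ∈ π₂.ker, ∀ b ∈ π₂.ker, a ≠ 1 → b ≠ 1 → a = b := by
      intro a ha b hb a1 b1
      by_contra hne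
      have hsub : ({1, a, b} : Set Γ) ⊆ π₂.ker := by
        rintro x (rfl | rfl | rfl)
        exacts [π₂.ker.one_mem, ha, hb]
      have := Set.ncard_le_ncard hsub (Set.toFinite _)
      rw [Set.ncard_insert_of_notMem (by simp [Ne.symm a1, Ne.symm b1]),
        Set.ncard_pair hne, ← Nat.card_coe_set_eq] at this
      have h3 : Nat.card ((π₂.ker : Subgroup Γ) : Set Γ) = Nat.card π₂.ker := rfl
      omega
    rcases eq_or_ne z 1 with rfl | hz1
    · exact ⟨one_mul 1, fun x => Commute.one_right x⟩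
    refine ⟨?_, fun x => ?_⟩
    · by_contra hzz
      exact hz1 (mul_left_cancel ((h2 _ (mul_mem hz hz) z hz hzz hz1).trans (mul_one z).symm))
    · have := h2 _ (π₂.normal_ker.conj_mem z hz x) z hz (fun e => hz1 (conj_eq_one_iff.1 e)) hz1
      calc x * z = x * z * x⁻¹ * x := by group
        _ = z * x := by rw [this]
  have hinj : Function.Injective π₁ := by
    have hsimp : IsSimpleGroup (Cfsg.PSU 4 K 2) :=
      S0283.result (show Fintype.card K = 2 ^ 2 from cardK) 4 (by norm_num) (by norm_num)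
    rw [← MonoidHom.ker_eq_bot_iff, eq_bot_iff]
    intro z hz
    rcases hsimp.eq_bot_or_eq_top_of_normal _ (π₁.normal_ker.map π₂ hsurj) with h | h
    · have h2 : π₂ z = 1 := by
        rw [← Subgroup.mem_bot, ← h]; exact Subgroup.mem_map_of_mem π₂ hz
      rw [Subgroup.mem_bot]
      exact hext _ _ (by rw [MonoidHom.mem_ker.1 hz, map_one]) (by rw [h2, map_one])
    · exfalso
      have hk1 : 25920 ≤ Nat.card π₁.ker := by
        rw [← hP]
        refine Nat.card_le_card_of_surjective (fun x : π₁.ker => π₂ x) fun y => ?_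
        obtain ⟨x, hx, rfl⟩ := (h ▸ Subgroup.mem_top y : y ∈ π₁.ker.map π₂)
        exact ⟨⟨x, hx⟩, rfl⟩
      have h1 := Subgroup.card_eq_card_quotient_mul_card_subgroup π₁.ker
      rw [Nat.card_congr (QuotientGroup.quotientKerEquivRange π₁).toEquiv] at h1
      have h3 : 3 ≤ Nat.card π₁.range := by
        have hpq : p ≠ q := fun e => C.pq (e ▸ Commute.refl p)
        have hsub : ({1, p, q} : Set G) ⊆ π₁.range := by
          rintro x (rfl | rfl | rfl)
          exacts [π₁.range.one_mem, ⟨el 0, e1 0 (by norm_num)⟩, ⟨el 1, e1 1 (by norm_num)⟩]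
        have := Set.ncard_le_ncard hsub (Set.toFinite _)
        rw [Set.ncard_insert_of_notMem (by simp [Ne.symm (ne_one hD C.hp), Ne.symm (ne_one hD C.hq)]),
          Set.ncard_pair hpq, ← Nat.card_coe_set_eq] at this
        exact this
      have := Nat.mul_le_mul h3 hk1
      omega
  -- the lifts of the transvections
  let T : (Fin 4 → K) → Cfsg.PSU 4 K 2 := fun v => toPSU 4 K (tv hF v)
  let Lift : (Fin 4 → K) → Γ → Prop := fun v γ => π₁ γ ∈ D ∧ π₂ γ = T v
  obtain ⟨v₀, iv₀, -, ht₀⟩ := ht 0 (by norm_num)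
  have hlift : ∀ v, Iso v → ∃ γ, Lift v γ := by
    intro v hv
    obtain ⟨g, hg⟩ := exists_act hF (by norm_num) iv₀ hv
    obtain ⟨γ, hγ⟩ := hsurj (toPSU 4 K g)
    refine ⟨γ * el 0 * γ⁻¹, ?_, ?_⟩
    · rw [map_mul, map_mul, map_inv, e1 0 (by norm_num)]
      exact P.conj _ _ C.hp
    · rw [map_mul, map_mul, map_inv, hγ, e2 0 (by norm_num), ht₀, ← map_mul, ← map_inv, ← map_mul,
        tv_conj_inv hF g iv₀.2, hg]
  have hnc : ∀ {v w γ ε}, Iso v → Iso w → hf v w ≠ 0 → Lift v γ → Lift w ε →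
      ¬ Commute (π₁ γ) (π₁ ε) := by
    intro v w γ ε hv hw hn h1 h2 hc
    have hc' : Commute γ ε := hinj (by rw [map_mul, map_mul]; exact hc.eq)
    have := hc'.map π₂
    rw [h1.2, h2.2] at this
    exact hn ((mk_tv_comm hF (by norm_num) hv hw).1 this)
  have huniq : ∀ {v γ γ'}, Iso v → Lift v γ → Lift v γ' → γ = γ' := by
    intro v γ γ' hv h h'
    obtain ⟨w, hw, hvw⟩ : ∃ w, Iso w ∧ hf v w ≠ 0 := by
      obtain ⟨z, hz, -⟩ := exists_partner hF (b := (Fin.elim0 : Fin 0 → Fin 4 → K))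
        linearIndependent_empty_type hv (fun i => i.elim0) (by
          rw [Set.range_eq_empty, Submodule.span_empty, Submodule.mem_bot]; exact hv.1)
      exact ⟨z, ⟨fun e => by have := hz.2; rw [e, zr] at this; exact zero_ne_one this, hz.1⟩,
        by rw [hz.2]; exact one_ne_zero⟩
    obtain ⟨ε, hε⟩ := hlift w hw
    obtain ⟨hz2, hzc⟩ := hsmall (γ⁻¹ * γ') (by rw [MonoidHom.mem_ker, map_mul, map_inv, h.2, h'.2, inv_mul_cancel])
    set z := γ⁻¹ * γ' with hz
    have c1 := pow_three_of_not_commute hD h.1 hε.1 (hnc hv hw hvw h hε)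
    have c2 := pow_three_of_not_commute hD h'.1 hε.1 (hnc hv hw hvw h' hε)
    rw [← map_mul, ← map_pow, ← map_one π₁] at c1 c2
    have e : γ' * ε = γ * ε * z := by
      rw [mul_assoc, (hzc ε).eq, ← mul_assoc, hz, mul_inv_cancel_left]
    have c2' := hinj c2
    rw [e, (hzc _).mul_pow, hinj c1, one_mul, pow_succ, pow_two, hz2, one_mul] at c2'
    exact inv_mul_eq_one.1 c2'
  let ψ : (Fin 4 → K) → G := fun v => if h : Iso v then π₁ (hlift v h).choose else 1
  have hψ : ∀ {v γ}, Iso v → Lift v γ → ψ v = π₁ γ := fun {v γ} hv h => by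
    simp only [ψ, dif_pos hv, huniq hv (hlift v hv).choose_spec h]
  have hval : ∀ a < 5, ∀ v : Fin 4 → K, Iso v →
      (∀ e : SU32.K4 ≃+* K, (fun k => e (GensCert.vec 4 (vecsFour.getD a []) k)) = v) →
      C.gen a ∈ D → ψ v = C.gen a := by
    intro a ha v hv hvv hgD
    obtain ⟨w, -, ⟨e, rfl⟩, hw⟩ := ht a ha
    rw [hψ hv (γ := el a) ⟨by rw [e1 a ha]; exact hgD, by rw [e2 a ha, hw, hvv e]⟩, e1 a ha]
  refine ⟨ψ, ⟨fun {v} hv => ?_, fun {v c} hv hc => ?_, fun {x v} hx hv => ?_, fun {x v} hx hv => ?_⟩,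
    ?_, ?_, ?_⟩
  · obtain ⟨γ, h⟩ := hlift v hv
    rw [hψ hv h]; exact h.1
  · obtain ⟨γ, h⟩ := hlift v hv
    rw [hψ hv h, hψ (iso_smul hv hc) (γ := γ) ⟨h.1, by
      rw [h.2]; exact congrArg (toPSU 4 K) (tv_smul hF hv hc).symm⟩]
  · obtain ⟨γ, h⟩ := hlift x hx
    obtain ⟨δ, h'⟩ := hlift v hv
    rw [hψ hx h, hψ hv h']
    refine ⟨fun hc => ?_, fun h0 => ?_⟩
    · by_contra hn
      exact hnc hx hv (fun e => hn (z_symm e)) h h' hc
    · have hl' : Lift v (γ * δ * γ) := ⟨by
        rw [map_mul, map_mul]; exact conj_mem hD P.conj h.1 h'.1, by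
        rw [map_mul, map_mul, h.2, h'.2, ← map_mul, ← map_mul]
        refine congrArg (toPSU 4 K) ?_
        conv_lhs => arg 2; rw [← tv_inv hF hx.2]
        rw [tv_conj_inv hF _ hv.2, act_tv_eq hx.2, rfl2_of_orth h0]⟩
      have he := congrArg π₁ (huniq hv hl' h')
      rw [map_mul, map_mul] at he
      show π₁ γ * π₁ δ = π₁ δ * π₁ γ
      calc π₁ γ * π₁ δ = π₁ γ * π₁ δ * π₁ γ * π₁ γ := by
            rw [mul_assoc _ (π₁ γ) (π₁ γ), mul_self hD h.1, mul_one]
        _ = _ := by rw [he]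
  · obtain ⟨γ, h⟩ := hlift x hx
    obtain ⟨δ, h'⟩ := hlift v hv
    rw [hψ hx h, hψ hv h', hψ (rfl2_iso hx.2 hv) (γ := γ * δ * γ) ⟨by
      rw [map_mul, map_mul]; exact conj_mem hD P.conj h.1 h'.1, by
      rw [map_mul, map_mul, h.2, h'.2, ← map_mul, ← map_mul]
      refine congrArg (toPSU 4 K) ?_
      conv_lhs => arg 2; rw [← tv_inv hF hx.2]
      rw [tv_conj_inv hF _ hv.2, act_tv_eq hx.2]⟩, map_mul, map_mul]
  · exact (hval 0 (by norm_num) va ⟨by decide, by decide +kernel⟩ (fun e => by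
      funext k; fin_cases k <;> first | exact map_zero e | exact map_one e) C.hp)
  · exact (hval 2 (by norm_num) vb ⟨by decide, by decide +kernel⟩ (fun e => by
      funext k; fin_cases k <;> first | exact map_zero e | exact map_one e) C.m₁.1)
  · exact (hval 4 (by norm_num) (va + vb) ⟨by decide, by decide +kernel⟩ (fun e => by
      funext k; fin_cases k <;> first | exact map_zero e | exact map_one e) C.m₂.1)

end Cfsg.Agent.FischerPolar
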