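/-
The frame over the 45 points respects lines.

Main results: `Polar.exists_emb_four`.
-/
import Cfsg.Agent.Lib.FischerPolar.Base.Frame
import Cfsg.Agent.Lib.FischerPolar.Pattern.Cert

set_option autoImplicit false

namespace Cfsg.Agent.FischerPolar

open Cfsg Cfsg.Agent.ThreeTrans Cfsg.Agent.ThreeTransRank Cfsg.Agent.ThreeTransSU Cfsg.Agent.U62Cover
open Cert (pt pt_iso cover)

/-- Apply transvections, the last index first. -/
def appW : List ℕ → (Fin 4 → K) → (Fin 4 → K)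
  | [], x => x
  | i :: r, x => appW r (rfl2 (pt i) x)

/-- In the span of `va` and `vb`. -/
def InSpan (x : Fin 4 → K) : Prop := x 0 = x 1 ∧ x 2 = x 3

instance instDecInSpan (x : Fin 4 → K) : Decidable (InSpan x) :=
  inferInstanceAs (Decidable (_ ∧ _))

/-- Words carrying each line to the first. -/
def lineWords : List (List ℕ) :=
  [[], [1], [2], [3], [4], [5], [6], [7], [8], [16], [17], [3, 1], [4, 1], [5, 1], [6, 1], [7, 1],
    [8, 1], [16, 1], [17, 1], [3, 2], [4, 2], [5, 2], [6, 2], [7, 2], [8, 2], [16, 2], [17, 2]]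

theorem words_lt : ∀ W ∈ lineWords, ∀ i ∈ W, i < 45 := by decide +kernel

theorem line_words : ∀ i < 45, ∀ j < 45, hf (pt i) (pt j) = 0 →
    ∃ W ∈ lineWords, InSpan (appW W (pt i)) ∧ InSpan (appW W (pt j)) := by
  decide +kernel

theorem span_cases : ∀ x : Fin 4 → K, InSpan x → x ≠ 0 → ∃ l : K, l ≠ 0 ∧
    (x = l • va ∨ x = l • vb ∨ ∃ c : K, c ≠ 0 ∧ x = l • (va + c • vb)) := by
  decide +kernel

theorem swap_word : ∀ x : Fin 4 → K, x = va ∨ x = vb →
    ∃ l : K, l ≠ 0 ∧ appW [1, 3, 5, 16] x = l • x := by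
  decide +kernel

theorem swap_shift : ∀ c : K, c ≠ 0 → ∃ l : K, l ≠ 0 ∧
    appW [1, 3, 5, 16] (va + c • vb) = l • (va + (c * .w2) • vb) := by
  decide +kernel

theorem span_iso {x : Fin 4 → K} (h : InSpan x) : hf x x = 0 := by
  obtain ⟨h1, h2⟩ := h
  have key : ∀ a b : K, a * a ^ 2 + a * a ^ 2 + b * b ^ 2 + b * b ^ 2 = 0 := by decide +kernel
  change ∑ i, x i * x i ^ 2 = 0
  rw [Fin.sum_univ_four, ← h1, ← h2]
  exact key _ _

theorem inSpan_smul {x : Fin 4 → K} (h : InSpan x) (c : K) : InSpan (c • x) := by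
  constructor
  · rw [Pi.smul_apply, Pi.smul_apply, h.1]
  · rw [Pi.smul_apply, Pi.smul_apply, h.2]

theorem inSpan_add {x y : Fin 4 → K} (h : InSpan x) (h' : InSpan y) : InSpan (x + y) := by
  constructor
  · rw [Pi.add_apply, Pi.add_apply, h.1, h'.1]
  · rw [Pi.add_apply, Pi.add_apply, h.2, h'.2]

theorem appW_smul : ∀ (W : List ℕ) (c : K) (x : Fin 4 → K), appW W (c • x) = c • appW W x
  | [], _, _ => rfl
  | i :: r, c, x => by rw [appW, appW, rfl2_smul, appW_smul r]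

theorem appW_iso : ∀ (W : List ℕ), (∀ i ∈ W, i < 45) → ∀ {x : Fin 4 → K}, Iso x → Iso (appW W x)
  | [], _, _, h => h
  | i :: r, hW, _, h => appW_iso r (fun j hj => hW j (List.mem_cons_of_mem i hj))
      (rfl2_iso (pt_iso i (hW i List.mem_cons_self)).2 h)

variable {G : Type*} [Group G] [Finite G] {D : Set G} {ψ : (Fin 4 → K) → G}

namespace Rules

variable (R : Rules D ψ) (P : Polar D 5)
include R P

theorem conj_inv {d x : Fin 4 → K} (hd : Iso d) (hx : Iso x) :
    ψ d * ψ x * (ψ d)⁻¹ = ψ (rfl2 d x) := by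
  rw [inv_eq P.set (R.mem hd), R.conj hd hx]

theorem exists_mover : ∀ (W : List ℕ), (∀ i ∈ W, i < 45) →
    ∃ g : G, ∀ x, Iso x → g * ψ x * g⁻¹ = ψ (appW W x)
  | [], _ => ⟨1, fun x _ => by rw [one_mul, inv_one, mul_one, appW]⟩
  | i :: r, hW => by
    obtain ⟨g, hg⟩ := exists_mover r fun j hj => hW j (List.mem_cons_of_mem i hj)
    have hi := pt_iso i (hW i List.mem_cons_self)
    refine ⟨g * ψ (pt i), fun x hx => ?_⟩
    rw [appW, ← hg _ (rfl2_iso hi.2 hx), ← R.conj_inv P hi hx]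
    group

theorem sep {x y : Fin 4 → K} (hx : Iso x) (hy : Iso y) (h : ∀ c : K, y ≠ c • x) : ψ x ≠ ψ y := by
  intro e
  obtain ⟨b, hb, hbx, hby⟩ := exists_iso_sep le_rfl h
  exact hby ((R.comm_iff hy hb).1 (e ▸ (R.comm_iff hx hb).2 hbx))

end Rules

theorem Polar.exists_emb_four (P : Polar D 5) (hadj : ∀ x ∈ D, (adj D x).Nonempty) :
    ∃ ψ, Emb D 4 ψ := by
  obtain ⟨p, q, u, u', z₁, z₂, C⟩ := P.exists_config hadj
  obtain ⟨ψ, R, hA, hB, hAB⟩ := C.exists_four P
  have ia : Iso va := by constructor <;> decide +kernel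
  have ib : Iso vb := by constructor <;> decide +kernel
  have hpu : p ≠ u := fun e => C.pq (e ▸ C.qu).symm
  have hL : FischerPolar.line D p z₁ = FischerPolar.line D p u :=
    P.line_eq C.hp C.hu hpu C.pu (left_mem C.hp) C.m₁ C.n₁p.symm
  have hz : z₂ ∈ FischerPolar.line D p z₁ := hL ▸ C.m₂
  -- the five points
  have hic : ∀ c : K, Iso (va + c • vb) := by
    have : ∀ c : K, va + c • vb ≠ 0 ∧ hf (va + c • vb) (va + c • vb) = 0 := by decide +kernel
    exact this
  obtain ⟨g, hg⟩ := R.exists_mover P [1, 3, 5, 16] (by decide)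
  have hfix : ∀ x, x = va ∨ x = vb → g * ψ x * g⁻¹ = ψ x := by
    intro x hx
    have hix : Iso x := by rcases hx with rfl | rfl <;> assumption
    obtain ⟨l, hl0, e⟩ := swap_word x hx
    rw [hg x hix, e, R.smul hix hl0]
  have hshift : ∀ c : K, c ≠ 0 → ψ (va + c • vb) ∈ FischerPolar.line D p z₁ →
      ψ (va + (c * .w2) • vb) ∈ FischerPolar.line D p z₁ := by
    intro c hc hmem
    obtain ⟨l, hl0, e⟩ := swap_shift c hc
    have h1 := line_conj_mem P.conj g hmem
    rwa [hg _ (hic c), e, R.smul (hic _) hl0, ← hA, ← hB, hfix va (Or.inl rfl), hfix vb (Or.inr rfl),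
      hA, hB] at h1
  have h1 : ψ (va + (1 : K) • vb) ∈ FischerPolar.line D p z₁ := by rw [one_smul, hAB]; exact hz
  have hw2 : ψ (va + (.w2 : K) • vb) ∈ FischerPolar.line D p z₁ := by
    have := hshift 1 one_ne_zero h1
    rwa [one_mul] at this
  have hw : ψ (va + (.w : K) • vb) ∈ FischerPolar.line D p z₁ := hshift _ (by decide) hw2
  have hpts : ∀ x, InSpan x → x ≠ 0 → ψ x ∈ FischerPolar.line D p z₁ := by
    intro x hx hx0
    obtain ⟨l, hl0, rfl | rfl | ⟨c, hc, rfl⟩⟩ := span_cases x hx hx0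
    · rw [R.smul ia hl0, hA]; exact left_mem C.hp
    · rw [R.smul ib hl0, hB]; exact right_mem C.m₁.1
    · rw [R.smul (hic c) hl0]
      have key : ∀ c : K, c ≠ 0 → c = 1 ∨ c = .w ∨ c = .w2 := by decide
      rcases key c hc with rfl | rfl | rfl
      exacts [h1, hw, hw2]
  refine ⟨ψ, le_rfl, fun hv => R.mem hv, fun hv hc => R.smul hv hc,
    fun hu hv h => (R.comm_iff hu hv).2 h, fun hu hv h hc => h ((R.comm_iff hu hv).1 hc),
    fun hu hv _ => R.conj hu hv, ?_⟩
  intro x y hxy c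
  obtain ⟨i, hi, a, ha0, rfl⟩ := cover x hxy.1.1 hxy.1.2
  obtain ⟨j, hj, b, hb0, rfl⟩ := cover y hxy.2.1.1 hxy.2.1.2
  have hij : hf (pt i) (pt j) = 0 := by
    have := hxy.2.2.1
    rwa [sl, sr, mul_eq_zero, or_iff_right ha0, mul_eq_zero,
      or_iff_right (pow_ne_zero 2 hb0)] at this
  obtain ⟨W, hW, hWi, hWj⟩ := line_words i hi j hj hij
  obtain ⟨k, hk⟩ := R.exists_mover P W (words_lt W hW)
  have hadd : ∀ (W : List ℕ) (s t : Fin 4 → K), appW W (s + t) = appW W s + appW W t := by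
    intro W
    induction W with
    | nil => intro s t; rfl
    | cons i r ih => intro s t; rw [appW, appW, appW, rfl2_add, ih]
  have hsum : Iso (a • pt i + c • b • pt j) := ((hxy.symm cardK).shift cardK c).2.1
  have m1 : InSpan (appW W (a • pt i)) := appW_smul W a _ ▸ inSpan_smul hWi a
  have m2 : InSpan (appW W (b • pt j)) := appW_smul W b _ ▸ inSpan_smul hWj b
  have m3 : InSpan (appW W (a • pt i + c • b • pt j)) := by
    rw [hadd, appW_smul W c]
    exact inSpan_add m1 (inSpan_smul m2 c)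
  have hI := fun {z : Fin 4 → K} (hz : Iso z) => appW_iso W (words_lt W hW) hz
  set X := appW W (a • pt i)
  set Y := appW W (b • pt j)
  have k1 : k⁻¹ * ψ X * k = ψ (a • pt i) := by rw [← hk _ hxy.1]; group
  have k2 : k⁻¹ * ψ Y * k = ψ (b • pt j) := by rw [← hk _ hxy.2.1]; group
  have k3 : k⁻¹ * ψ (appW W (a • pt i + c • b • pt j)) * k = ψ (a • pt i + c • b • pt j) := by
    rw [← hk _ hsum]; group
  have hne : ψ X ≠ ψ Y := fun e => R.sep P hxy.1 hxy.2.1 hxy.2.2.2 (by rw [← k1, ← k2, e])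
  have hline := P.line_eq C.hp C.m₁.1 C.n₁p.symm (line_comm C.hp C.hu C.pu C.m₁).1
    (hpts X m1 (hI hxy.1).1) (hpts Y m2 (hI hxy.2.1).1) hne
  have hmem := hpts _ m3 (hI hsum).1
  rw [← hline] at hmem
  have := line_conj_mem P.conj k⁻¹ hmem
  rwa [inv_inv, k1, k2, k3] at this

end Cfsg.Agent.FischerPolar
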